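import Cfsg.Prelude.Def_SporadicB
set_option linter.all false

set_option autoImplicit false

/-! Elementary facts about sets of 3-transpositions. -/

namespace Cfsg.Agent.SporadicB.ThreeTrans

open Cfsg

variable {G : Type*} [Group G] {E : Set G}

/-- members square to one -/
theorem mul_self (hE : Cfsg.IsThreeTranspositionSet E) {d : G} (hd : d ∈ E) : d * d = 1 := by
  have h := hE.1 d hd
  have := pow_orderOf_eq_one d
  rw [h, pow_two] at this
  exact this

theorem inv_eq (hE : Cfsg.IsThreeTranspositionSet E) {d : G} (hd : d ∈ E) : d⁻¹ = d :=
  inv_eq_of_mul_eq_one_left (mul_self hE hd)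

/-- two members commute or satisfy the braid relation -/
theorem commute_or_braid (hE : Cfsg.IsThreeTranspositionSet E) {d e : G} (hd : d ∈ E) (he : e ∈ E) :
    Commute d e ∨ d * e * d = e * d * e := by
  have hd2 := mul_self hE hd
  have he2 := mul_self hE he
  have hdi := inv_eq hE hd
  have hei := inv_eq hE he
  rcases hE.2 d hd e he with h | h
  · left
    have h1 : d * e * (d * e) = 1 := by rw [← pow_two]; exact h
    have h2 : d * e = (d * e)⁻¹ := eq_inv_of_mul_eq_one_left h1
    show d * e = e * d
    rw [h2, mul_inv_rev, hdi, hei]
  · right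
    have h1 : d * e * d * (e * d * e) = 1 := by
      have : d * e * d * (e * d * e) = (d * e) ^ 3 := by
        rw [pow_succ, pow_two]; simp only [mul_assoc]
      rw [this]; exact h
    have h2 : d * e * d = (e * d * e)⁻¹ := eq_inv_of_mul_eq_one_left h1
    rw [h2, mul_inv_rev, mul_inv_rev, hdi, hei, mul_assoc]

/-- the braid relation for noncommuting members -/
theorem braid (hE : Cfsg.IsThreeTranspositionSet E) {d e : G} (hd : d ∈ E) (he : e ∈ E)
    (h : ¬ Commute d e) : d * e * d = e * d * e :=
  (commute_or_braid hE hd he).resolve_left h

/-- `e` centralises the product of two distinct commuting members iff it centralises both -/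
theorem commute_mul_iff (hE : Cfsg.IsThreeTranspositionSet E) {a b e : G} (ha : a ∈ E) (hb : b ∈ E)
    (he : e ∈ E) (hab : a ≠ b) (hcomm : Commute a b) :
    Commute e (a * b) ↔ (Commute e a ∧ Commute e b) := by
  constructor
  · intro h
    have ha2 := mul_self hE ha
    have hb2 := mul_self hE hb
    have he2 := mul_self hE he
    by_cases h1 : Commute e a
    · refine ⟨h1, ?_⟩
      have h2 : b = a * (a * b) := by rw [← mul_assoc, ha2, one_mul]
      rw [h2]
      exact h1.mul_right h
    · by_cases h2 : Commute e b
      · exfalso
        apply h1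
        have h3 : a = (a * b) * b := by rw [mul_assoc, hb2, mul_one]
        rw [h3]
        exact h.mul_right h2
      · exfalso
        apply hab
        have hea := braid hE he ha h1
        have heb := braid hE he hb h2
        -- e (ab) e = ab
        have h4 : e * (a * b) * e = a * b := by
          rw [h.eq, mul_assoc, he2, mul_one]
        have h5 : (e * a * e) * (e * b * e) = a * b := by
          calc (e * a * e) * (e * b * e) = e * a * (e * e) * b * e := by simp only [mul_assoc]
            _ = e * (a * b) * e := by rw [he2, mul_one]; simp only [mul_assoc]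
            _ = a * b := h4
        rw [hea, heb] at h5
        -- a e a b e b = a b
        have h6 : e * (a * b) * e = 1 := by
          have h7 : a * (e * (a * b) * e) * b = a * 1 * b := by
            calc a * (e * (a * b) * e) * b = a * e * a * (b * e * b) := by simp only [mul_assoc]
              _ = a * 1 * b := by rw [h5, mul_one]
          exact mul_left_cancel (mul_right_cancel h7)
        rw [h4] at h6
        rw [eq_inv_of_mul_eq_one_left h6, inv_eq hE hb]
  · rintro ⟨h1, h2⟩
    exact h1.mul_right h2

/-- `e` centralises the product of three distinct commuting members iff it centralises each -/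
theorem commute_mul_mul_iff (hE : Cfsg.IsThreeTranspositionSet E) {a b c e : G} (ha : a ∈ E)
    (hb : b ∈ E) (hc : c ∈ E) (he : e ∈ E) (hab : a ≠ b) (hac : a ≠ c) (hbc : b ≠ c)
    (h₁ : Commute a b) (h₂ : Commute a c) (h₃ : Commute b c) :
    Commute e (a * b * c) ↔ (Commute e a ∧ Commute e b ∧ Commute e c) := by
  constructor
  · intro h
    have ha2 := mul_self hE ha
    have hb2 := mul_self hE hb
    have hc2 := mul_self hE hc
    have he2 := mul_self hE he
    by_cases h1 : Commute e a
    · have h2 : b * c = a * (a * b * c) := by rw [mul_assoc a b c, ← mul_assoc a a, ha2, one_mul]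
      have h3 : Commute e (b * c) := by rw [h2]; exact h1.mul_right h
      exact ⟨h1, (commute_mul_iff hE hb hc he hbc h₃).1 h3⟩
    by_cases h2 : Commute e c
    · have h3 : a * b = (a * b * c) * c := by rw [mul_assoc, hc2, mul_one]
      have h4 : Commute e (a * b) := by rw [h3]; exact h.mul_right h2
      obtain ⟨h5, h6⟩ := (commute_mul_iff hE ha hb he hab h₁).1 h4
      exact ⟨h5, h6, h2⟩
    by_cases h3 : Commute e b
    · have h4 : a * c = b * (a * b * c) := by
        rw [h₁.eq, mul_assoc b a c, ← mul_assoc b b, hb2, one_mul]
      have h5 : Commute e (a * c) := by rw [h4]; exact h3.mul_right h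
      obtain ⟨h6, h7⟩ := (commute_mul_iff hE ha hc he hac h₂).1 h5
      exact ⟨h6, h3, h7⟩
    exfalso
    apply h2
    have hea := braid hE he ha h1
    have heb := braid hE he hb h3
    have hec := braid hE he hc h2
    -- (b a) e (a b) = c e c
    have h4 : b * (a * e * a) * b = c * e * c := by
      have h5 : e * (a * b) = (a * b * c) * e * c := by
        calc e * (a * b) = e * (a * b) * (c * c) := by rw [hc2, mul_one]
          _ = (e * (a * b * c)) * c := by simp only [mul_assoc]
          _ = (a * b * c) * e * c := by rw [h.eq]
      calc b * (a * e * a) * b = b * a * (e * (a * b)) := by simp only [mul_assoc]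
        _ = b * a * ((a * b * c) * e * c) := by rw [h5]
        _ = b * (a * a) * b * (c * e * c) := by simp only [mul_assoc]
        _ = c * e * c := by rw [ha2, mul_one, hb2, one_mul]
    rw [← hea, ← hec] at h4
    -- b e a e b = e c e
    have h5 : (e * b * e) * a * (e * b * e) = c := by
      calc (e * b * e) * a * (e * b * e) = e * (b * (e * a * e) * b) * e := by
            simp only [mul_assoc]
        _ = e * (e * c * e) * e := by rw [h4]
        _ = (e * e) * c * (e * e) := by simp only [mul_assoc]
        _ = c := by rw [he2, one_mul, mul_one]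
    rw [heb] at h5
    have h6 : b * (e * a * e) * b = c := by
      calc b * (e * a * e) * b = b * (e * (a * (b * b)) * e) * b := by rw [hb2, mul_one]
        _ = b * (e * ((a * b) * b) * e) * b := by simp only [mul_assoc]
        _ = b * (e * ((b * a) * b) * e) * b := by rw [h₁.eq]
        _ = b * e * b * a * (b * e * b) := by simp only [mul_assoc]
        _ = c := h5
    rw [h4] at h6
    -- e c e = c
    show e * c = c * e
    calc e * c = e * c * (e * e) := by rw [he2, mul_one]
      _ = (e * c * e) * e := by simp only [mul_assoc]
      _ = c * e := by rw [h6]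
  · rintro ⟨h1, h2, h3⟩
    exact (h1.mul_right h2).mul_right h3

/-- an involutory automorphism preserving `E` and moving some `a` to a noncommuting member fixes a
member -/
theorem exists_fixed (hE : Cfsg.IsThreeTranspositionSet E)
    (hconj : ∀ g : G, ∀ d ∈ E, g * d * g⁻¹ ∈ E) (x : G ≃* G) (hx : ∀ g : G, x (x g) = g)
    (hxE : ∀ d ∈ E, x d ∈ E) {a : G} (ha : a ∈ E) (h : ¬ Commute a (x a)) :
    ∃ d ∈ E, x d = d := by
  have hb := braid hE ha (hxE a ha) h
  refine ⟨a * x a * a, ?_, ?_⟩
  · have := hconj a (x a) (hxE a ha)
    rwa [inv_eq hE ha] at this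
  · rw [map_mul, map_mul, hx a, hb]

end Cfsg.Agent.SporadicB.ThreeTrans
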