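import Cfsg.Agent.SporadicB.DoubleCoverSmall
set_option linter.all false

set_option autoImplicit false
open Cfsg

namespace Cfsg.Agent.SporadicB.DoubleCoverUnique

open Equiv Equiv.Perm Cfsg.Agent.SporadicB.DoubleCover Cfsg.Agent.SporadicB.DoubleCoverSmall

theorem alt_mem {n : ℕ} (a b c d : Fin n) (h1 : a ≠ b) (h2 : c ≠ d) :
    swap a b * swap c d ∈ alternatingGroup (Fin n) := by
  rw [mem_alternatingGroup, map_mul, sign_swap h1, sign_swap h2]
  decide

theorem four {H : Type*} [Group H] [Finite H]
    (hH : Cfsg.IsNonsplitDoubleCover H (alternatingGroup (Fin 4)))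
    (x : H) (hx : orderOf x = 2) : x ∈ Subgroup.center H := by
  refine mem_center_of_involution (n := 4) (k := 2) (j := 1) (m := 3) rfl
    ⟨swap 0 1 * swap 2 3, alt_mem _ _ _ _ (by decide) (by decide)⟩
    ⟨swap 0 2 * swap 1 3, alt_mem _ _ _ _ (by decide) (by decide)⟩
    (orderOf_eq_prime (by decide) (by decide)) (orderOf_eq_prime (by decide) (by decide))
    (orderOf_eq_prime (by decide) (by decide)) (by decide) ?_ (by decide) (by decide)
    (isConj_of_involutions (by norm_num) (swap 0 1 * swap 2 3) (swap 0 1)
      (sign_swap (by decide)) (by decide) (cycleType_swap_mul_swap_of_nodup (by decide))) hH x hx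
  rw [nat_card_alternatingGroup]; simp [Nat.factorial_succ]

theorem five {H : Type*} [Group H] [Finite H]
    (hH : Cfsg.IsNonsplitDoubleCover H (alternatingGroup (Fin 5)))
    (x : H) (hx : orderOf x = 2) : x ∈ Subgroup.center H := by
  refine mem_center_of_involution (n := 5) (k := 2) (j := 1) (m := 15) rfl
    ⟨swap 0 1 * swap 2 3, alt_mem _ _ _ _ (by decide) (by decide)⟩
    ⟨swap 0 2 * swap 1 3, alt_mem _ _ _ _ (by decide) (by decide)⟩
    (orderOf_eq_prime (by decide) (by decide)) (orderOf_eq_prime (by decide) (by decide))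
    (orderOf_eq_prime (by decide) (by decide)) (by decide) ?_ (by decide) (by decide)
    (isConj_of_involutions (by norm_num) (swap 0 1 * swap 2 3) (swap 0 1)
      (sign_swap (by decide)) (by decide) (cycleType_swap_mul_swap_of_nodup (by decide))) hH x hx
  rw [nat_card_alternatingGroup]; simp [Nat.factorial_succ]

theorem six {H : Type*} [Group H] [Finite H]
    (hH : Cfsg.IsNonsplitDoubleCover H (alternatingGroup (Fin 6)))
    (x : H) (hx : orderOf x = 2) : x ∈ Subgroup.center H := by
  refine mem_center_of_involution (n := 6) (k := 4) (j := 2) (m := 45) rfl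
    ⟨swap 0 2 * swap 4 5, alt_mem _ _ _ _ (by decide) (by decide)⟩
    ⟨swap 0 1 * swap 2 3, alt_mem _ _ _ _ (by decide) (by decide)⟩
    (orderOf_eq_prime (by decide) (by decide)) (orderOf_eq_prime (by decide) (by decide))
    (orderOf_eq_prime (by decide) (by decide)) (by decide) ?_ (by decide) (by decide)
    (isConj_of_involutions (by norm_num) (swap 0 1 * swap 2 3) (swap 0 1)
      (sign_swap (by decide)) (by decide) (cycleType_swap_mul_swap_of_nodup (by decide))) hH x hx
  rw [nat_card_alternatingGroup]; simp [Nat.factorial_succ]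

theorem seven {H : Type*} [Group H] [Finite H]
    (hH : Cfsg.IsNonsplitDoubleCover H (alternatingGroup (Fin 7)))
    (x : H) (hx : orderOf x = 2) : x ∈ Subgroup.center H := by
  refine mem_center_of_involution (n := 7) (k := 4) (j := 2) (m := 315) rfl
    ⟨swap 0 2 * swap 4 5, alt_mem _ _ _ _ (by decide) (by decide)⟩
    ⟨swap 0 1 * swap 2 3, alt_mem _ _ _ _ (by decide) (by decide)⟩
    (orderOf_eq_prime (by decide) (by decide)) (orderOf_eq_prime (by decide) (by decide))
    (orderOf_eq_prime (by decide) (by decide)) (by decide) ?_ (by decide) (by decide)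
    (isConj_of_involutions (by norm_num) (swap 0 1 * swap 2 3) (swap 0 1)
      (sign_swap (by decide)) (by decide) (cycleType_swap_mul_swap_of_nodup (by decide))) hH x hx
  rw [nat_card_alternatingGroup]; simp [Nat.factorial_succ]

/-- In a non-split double cover of the alternating group of degree at most 7 every involution is
central. -/
theorem involution_mem_center {n : ℕ} (hn : n ≤ 7) {H : Type*} [Group H] [Finite H]
    (hH : Cfsg.IsNonsplitDoubleCover H (alternatingGroup (Fin n)))
    (x : H) (hx : orderOf x = 2) : x ∈ Subgroup.center H := by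
  by_cases h3 : n ≤ 3
  · exfalso
    obtain ⟨hZ, ⟨e⟩, hL⟩ := hH
    haveI hcyc : IsCyclic (alternatingGroup (Fin n)) :=
      alternatingGroup.isCyclic_of_card_le_three (by simpa using h3)
    have htop : Subgroup.center H = ⊤ := by
      rw [eq_top_iff]
      intro g _
      rw [Subgroup.mem_center_iff]
      intro h
      have := commutative_of_cyclic_center_quotient
        (e.toMonoidHom.comp (QuotientGroup.mk' (Subgroup.center H))) (by
          intro y hy
          rw [MonoidHom.mem_ker] at hy
          change e ((y : H ⧸ Subgroup.center H)) = 1 at hy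
          rw [e.map_eq_one_iff] at hy
          exact (QuotientGroup.eq_one_iff y).mp hy)
      exact this h g
    exact hL ⊥ (by rw [htop]; exact Subgroup.isComplement'_top_bot)
  · push Not at h3
    have h : n = 4 ∨ n = 5 ∨ n = 6 ∨ n = 7 := by omega
    rcases h with rfl | rfl | rfl | rfl
    · exact four hH x hx
    · exact five hH x hx
    · exact six hH x hx
    · exact seven hH x hx

theorem unique_involution {n : ℕ} (hn : n ≤ 7) {H : Type*} [Group H] [Finite H]
    (hH : Cfsg.IsNonsplitDoubleCover H (alternatingGroup (Fin n)))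
    (x y : H) (hx : orderOf x = 2) (hy : orderOf y = 2) : x = y := by
  have hxc := involution_mem_center hn hH x hx
  have hyc := involution_mem_center hn hH y hy
  obtain ⟨w, -, hw⟩ := (Nat.card_eq_two_iff' (1 : Subgroup.center H)).mp hH.1
  have h1 : ∀ (u : H) (huc : u ∈ Subgroup.center H), orderOf u = 2 → ⟨u, huc⟩ = w := by
    intro u huc hu
    apply hw
    intro h
    have : u = 1 := congrArg Subtype.val h
    rw [this, orderOf_one] at hu
    exact absurd hu (by norm_num)
  exact congrArg Subtype.val ((h1 x hxc hx).trans (h1 y hyc hy).symm)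

end Cfsg.Agent.SporadicB.DoubleCoverUnique
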