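import Mathlib
set_option linter.all false

set_option autoImplicit false

namespace Cfsg.Agent.SporadicB.DihedralLift

/-- If `a` conjugated by the involution `x` is its inverse, then so for integral powers. -/
theorem inv_conj_zpow {G : Type*} [Group G] {x a : G} (hx : x * x = 1) (ha : x * a * x = a⁻¹)
    (k : ℤ) : x * a ^ k * x = a ^ (-k) := by
  have hxinv : x⁻¹ = x := inv_eq_of_mul_eq_one_left hx
  have h1 : MulAut.conj x (a ^ k) = (MulAut.conj x a) ^ k := map_zpow _ _ _
  rw [MulAut.conj_apply, MulAut.conj_apply, hxinv, ha] at h1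
  rw [h1, inv_zpow, zpow_neg]

/-- The homomorphism from a dihedral group determined by an involution `x` and an element `a`
with `a ^ n = 1` inverted by `x`. It maps `r i` to `a ^ i` and `sr i` to `x * a ^ i`. -/
theorem exists_dihedral_hom {G : Type*} [Group G] (n : ℕ) {x a : G} (hx : x * x = 1)
    (ha : a ^ n = 1) (hxa : x * a * x = a⁻¹) :
    ∃ f : DihedralGroup n →* G, (∀ k : ℤ, f (DihedralGroup.r (k : ZMod n)) = a ^ k) ∧
      (∀ k : ℤ, f (DihedralGroup.sr (k : ZMod n)) = x * a ^ k) := by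
  have hwd : ∀ k l : ℤ, (k : ZMod n) = (l : ZMod n) → a ^ k = a ^ l := by
    intro k l h
    rw [ZMod.intCast_eq_intCast_iff_dvd_sub] at h
    obtain ⟨c, hc⟩ := h
    have : l = k + n * c := by linarith
    rw [this, zpow_add, zpow_mul, zpow_natCast, ha, one_zpow, mul_one]
  obtain ⟨q, hq⟩ := (ZMod.intCast_surjective (n := n)).hasRightInverse
  have hp : ∀ k : ℤ, a ^ (q (k : ZMod n)) = a ^ k := fun k => hwd _ _ (hq _)
  have hxk : ∀ k : ℤ, a ^ k * x = x * a ^ (-k) := by
    intro k
    rw [← inv_conj_zpow hx hxa k]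
    rw [← mul_assoc, ← mul_assoc, hx, one_mul]
  let F : DihedralGroup n → G := fun g => match g with
    | DihedralGroup.r i => a ^ (q i)
    | DihedralGroup.sr i => x * a ^ (q i)
  have hFr : ∀ k : ℤ, F (DihedralGroup.r (k : ZMod n)) = a ^ k := fun k => hp k
  have hFs : ∀ k : ℤ, F (DihedralGroup.sr (k : ZMod n)) = x * a ^ k := fun k => by
    show x * a ^ (q (k : ZMod n)) = _
    rw [hp]
  refine ⟨MonoidHom.mk' F ?_, hFr, hFs⟩
  rintro (i | i) (j | j) <;> obtain ⟨k, rfl⟩ := ZMod.intCast_surjective i <;>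
    obtain ⟨l, rfl⟩ := ZMod.intCast_surjective j
  · rw [DihedralGroup.r_mul_r, ← Int.cast_add, hFr, hFr, hFr, zpow_add]
  · rw [DihedralGroup.r_mul_sr, ← Int.cast_sub, hFr, hFs, hFs, ← mul_assoc, hxk, mul_assoc,
      ← zpow_add]
    congr 2; ring
  · rw [DihedralGroup.sr_mul_r, ← Int.cast_add, hFr, hFs, hFs, mul_assoc, zpow_add]
  · rw [DihedralGroup.sr_mul_sr, ← Int.cast_sub, hFr, hFs, hFs, mul_assoc, ← mul_assoc (a ^ k),
      hxk, mul_assoc, ← zpow_add, ← mul_assoc, hx, one_mul]
    congr 1; ring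

/-- Two involutions `x`, `y` generate a dihedral group: here `x` should not be a power of
`x * y` (which is automatic if `x ≠ 1` and `y ≠ 1`, see `not_mem_zpowers`). -/
theorem closure_pair_equiv_dihedral {G : Type*} [Group G] {n : ℕ} {x y : G} (hx : x * x = 1)
    (hy : y * y = 1) (hn : orderOf (x * y) = n) (hne : x ∉ Subgroup.zpowers (x * y)) :
    Nonempty (Subgroup.closure ({x, y} : Set G) ≃* DihedralGroup n) := by
  have hxinv : x⁻¹ = x := inv_eq_of_mul_eq_one_left hx
  have hyinv : y⁻¹ = y := inv_eq_of_mul_eq_one_left hy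
  have ha : (x * y) ^ n = 1 := by rw [← hn]; exact pow_orderOf_eq_one _
  have hxa : x * (x * y) * x = (x * y)⁻¹ := by
    rw [← mul_assoc, hx, one_mul, mul_inv_rev, hxinv, hyinv]
  obtain ⟨f, hfr, hfs⟩ := exists_dihedral_hom n hx ha hxa
  have hinj : Function.Injective f := by
    rw [injective_iff_map_eq_one]
    rintro (i | i) h <;> obtain ⟨k, rfl⟩ := ZMod.intCast_surjective i
    · rw [hfr, ← orderOf_dvd_iff_zpow_eq_one, hn] at h
      rw [DihedralGroup.one_def, (ZMod.intCast_zmod_eq_zero_iff_dvd k n).mpr h]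
    · exfalso
      rw [hfs] at h
      apply hne
      rw [mul_eq_one_iff_eq_inv] at h
      have h2 : ((x * y) ^ k)⁻¹ ∈ Subgroup.zpowers (x * y) := Subgroup.inv_mem _ ⟨k, rfl⟩
      rwa [← h] at h2
  have hrange : f.range = Subgroup.closure ({x, y} : Set G) := by
    apply le_antisymm
    · rintro _ ⟨(i | i), rfl⟩ <;> obtain ⟨k, rfl⟩ := ZMod.intCast_surjective i
      · rw [hfr]
        exact Subgroup.zpow_mem _ (Subgroup.mul_mem _ (Subgroup.subset_closure (by simp))
          (Subgroup.subset_closure (by simp))) _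
      · rw [hfs]
        exact Subgroup.mul_mem _ (Subgroup.subset_closure (by simp))
          (Subgroup.zpow_mem _ (Subgroup.mul_mem _ (Subgroup.subset_closure (by simp))
          (Subgroup.subset_closure (by simp))) _)
    · rw [Subgroup.closure_le]
      rintro z (rfl | rfl)
      · refine ⟨DihedralGroup.sr ((0 : ℤ) : ZMod n), ?_⟩
        rw [hfs, zpow_zero, mul_one]
      · refine ⟨DihedralGroup.sr ((1 : ℤ) : ZMod n), ?_⟩
        rw [hfs, zpow_one, ← mul_assoc, hx, one_mul]
  exact ⟨((MonoidHom.ofInjective hinj).trans (MulEquiv.subgroupCongr hrange)).symm⟩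

/-- If `x` and `y` are involutions (not `1`), then `x` is not a power of `x * y`. -/
theorem not_mem_zpowers {G : Type*} [Group G] {x y : G} (hx : x * x = 1)
    (hy : y * y = 1) (hx1 : x ≠ 1) (hy1 : y ≠ 1) : x ∉ Subgroup.zpowers (x * y) := by
  rintro ⟨k, hk⟩
  have hk' : (x * y) ^ k = x := hk
  have hcomm : Commute (x * y) x := by
    have := (Commute.refl (x * y)).zpow_right k
    rwa [hk'] at this
  have hxy : x * y = y * x := by
    have h := hcomm.eq
    -- x * y * x = x * (x * y) = y
    rw [← mul_assoc, hx, one_mul] at h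
    calc x * y = x * y * (x * x) := by rw [hx, mul_one]
      _ = (x * y * x) * x := by group
      _ = y * x := by rw [h]
  have h2 : (x * y) ^ (2 : ℤ) = 1 := by
    rw [zpow_ofNat, pow_two]
    calc x * y * (x * y) = x * y * (y * x) := by rw [← hxy]
      _ = x * (y * y) * x := by group
      _ = 1 := by rw [hy, mul_one, hx]
  rcases Int.even_or_odd' k with ⟨c, hc | hc⟩
  · rw [hc, zpow_mul, h2, one_zpow] at hk'
    exact hx1 hk'.symm
  · rw [hc, zpow_add, zpow_mul, h2, one_zpow, one_mul, zpow_one] at hk'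
    exact hy1 (mul_eq_left.mp hk')

/-- Two involutions of a group generate a dihedral group. -/
theorem closure_pair_equiv_dihedral' {G : Type*} [Group G] {n : ℕ} {x y : G} (hx : orderOf x = 2)
    (hy : orderOf y = 2) (hn : orderOf (x * y) = n) :
    Nonempty (Subgroup.closure ({x, y} : Set G) ≃* DihedralGroup n) := by
  have hx2 : x * x = 1 := by rw [← pow_two, ← hx]; exact pow_orderOf_eq_one _
  have hy2 : y * y = 1 := by rw [← pow_two, ← hy]; exact pow_orderOf_eq_one _
  have hx1 : x ≠ 1 := by rintro rfl; simp at hx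
  have hy1 : y ≠ 1 := by rintro rfl; simp at hy
  exact closure_pair_equiv_dihedral hx2 hy2 hn (not_mem_zpowers hx2 hy2 hx1 hy1)

/-- The dihedral group of order 6 is the symmetric group of degree 3. -/
theorem dihedral_three_equiv_perm : Nonempty (DihedralGroup 3 ≃* Equiv.Perm (Fin 3)) := by
  obtain ⟨e⟩ := closure_pair_equiv_dihedral' (G := Equiv.Perm (Fin 3)) (n := 3)
    (x := Equiv.swap 0 1) (y := Equiv.swap 1 2)
    (orderOf_eq_prime (by decide) (by decide)) (orderOf_eq_prime (by decide) (by decide))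
    (orderOf_eq_prime (by decide) (by decide))
  have htop : Subgroup.closure ({Equiv.swap 0 1, Equiv.swap 1 2} : Set (Equiv.Perm (Fin 3))) = ⊤ := by
    apply Subgroup.eq_top_of_card_eq
    rw [Nat.card_congr e.toEquiv, DihedralGroup.nat_card, Nat.card_perm]
    simp [Nat.factorial]
  exact ⟨e.symm.trans ((MulEquiv.subgroupCongr htop).trans Subgroup.topEquiv)⟩

end Cfsg.Agent.SporadicB.DihedralLift
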