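import Mathlib
set_option linter.all false

set_option autoImplicit false

namespace Cfsg.Agent.SporadicB.PermRealization

/-- If a group `G` acts transitively and faithfully on `Fin n` with point stabiliser `K` up to iso:
a faithful coset action of a group `G` on the cosets of a subgroup `K` of index `n` is realised as a transitive
subgroup of the symmetric group on `Fin n`, isomorphic to `G`, all of whose point stabilisers are isomorphic to `K`. -/
theorem exists_perm_realization_of_normalCore_eq_bot {G : Type*} [Group G] (K : Subgroup G) {n : ℕ}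
    (hn : n ≠ 0) (hK : K.index = n) (hcore : K.normalCore = ⊥) :
    ∃ H : Subgroup (Equiv.Perm (Fin n)), Nonempty (G ≃* H) ∧ MulAction.IsPretransitive H (Fin n) ∧
      ∀ i : Fin n, Nonempty (K ≃* MulAction.stabilizer H i) := by
  classical
  have hfin : Finite (G ⧸ K) := by
    have : K.FiniteIndex := ⟨by rw [hK]; exact hn⟩
    infer_instance
  have hcard : Nat.card (G ⧸ K) = n := hK
  let e : (G ⧸ K) ≃ Fin n := (Finite.equivFin (G ⧸ K)).trans (finCongr hcard)
  let φ : G →* Equiv.Perm (Fin n) := (e.permCongrHom.toMonoidHom).comp (MulAction.toPermHom G (G ⧸ K))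
  have hφ : ∀ (g : G) (i : Fin n), φ g i = e (g • e.symm i) := fun g i => rfl
  have hker : Function.Injective φ := by
    rw [injective_iff_map_eq_one]
    intro g hg
    have h1 : MulAction.toPermHom G (G ⧸ K) g = 1 := by
      apply e.permCongrHom.injective
      rw [map_one]
      exact hg
    have h2 : g ∈ K.normalCore := by
      rw [Subgroup.normalCore_eq_ker]
      exact h1
    rw [hcore] at h2
    exact Subgroup.mem_bot.mp h2
  refine ⟨φ.range, ⟨MonoidHom.ofInjective hker⟩, ?_, ?_⟩
  · refine ⟨fun i j => ?_⟩
    obtain ⟨g, hg⟩ := MulAction.exists_smul_eq G (e.symm i) (e.symm j)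
    refine ⟨⟨φ g, g, rfl⟩, ?_⟩
    show φ g i = j
    rw [hφ, hg, Equiv.apply_symm_apply]
  · intro i
    obtain ⟨x, hx⟩ := QuotientGroup.mk_surjective (e.symm i)
    -- the stabiliser of `i` in the range is the image of `x K x⁻¹`
    let ψ : K →* MulAction.stabilizer φ.range i :=
      { toFun := fun k => ⟨⟨φ (x * k * x⁻¹), x * k * x⁻¹, rfl⟩, by
          rw [MulAction.mem_stabilizer_iff]
          show φ (x * k * x⁻¹) i = i
          rw [hφ, ← hx, ← Equiv.eq_symm_apply, ← hx]
          show ((x * k * x⁻¹ * x : G) : G ⧸ K) = x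
          rw [QuotientGroup.eq]
          simp⟩
        map_one' := by
          apply Subtype.ext; apply Subtype.ext
          show φ (x * (1 : K) * x⁻¹) = 1
          simp
        map_mul' := by
          intro a b
          apply Subtype.ext; apply Subtype.ext
          show φ (x * ((a * b : K) : G) * x⁻¹) = φ (x * a * x⁻¹) * φ (x * b * x⁻¹)
          rw [← map_mul]
          congr 1
          rw [Subgroup.coe_mul]
          group }
    refine ⟨MulEquiv.ofBijective ψ ⟨?_, ?_⟩⟩
    · intro a b hab
      have h1 : φ (x * a * x⁻¹) = φ (x * b * x⁻¹) := congrArg (fun z => (z.1.1 : Equiv.Perm (Fin n))) hab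
      have h2 := hker h1
      apply Subtype.ext
      exact mul_left_cancel (mul_right_cancel h2)
    · rintro ⟨⟨p, g, rfl⟩, hp⟩
      rw [MulAction.mem_stabilizer_iff] at hp
      have hp' : φ g i = i := hp
      rw [hφ, ← hx, ← Equiv.eq_symm_apply, ← hx] at hp'
      have hp2 : ((g * x : G) : G ⧸ K) = x := hp'
      rw [QuotientGroup.eq] at hp2
      have hk : x⁻¹ * g * x ∈ K := by
        have := K.inv_mem hp2
        simpa [mul_assoc] using this
      refine ⟨⟨x⁻¹ * g * x, hk⟩, ?_⟩
      apply Subtype.ext; apply Subtype.ext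
      show φ (x * (x⁻¹ * g * x) * x⁻¹) = φ g
      congr 1
      group

/-- For a simple group `G` and a proper subgroup `K` of index `n`. -/
theorem exists_perm_realization {G : Type*} [Group G] [IsSimpleGroup G] (K : Subgroup G) {n : ℕ}
    (hn : 1 < n) (hK : K.index = n) :
    ∃ H : Subgroup (Equiv.Perm (Fin n)), Nonempty (G ≃* H) ∧ MulAction.IsPretransitive H (Fin n) ∧
      ∀ i : Fin n, Nonempty (K ≃* MulAction.stabilizer H i) := by
  apply exists_perm_realization_of_normalCore_eq_bot K (by omega) hK
  rcases (inferInstance : K.normalCore.Normal).eq_bot_or_eq_top with h | h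
  · exact h
  · exfalso
    have h1 : K = ⊤ := by
      rw [eq_top_iff, ← h]
      exact K.normalCore_le
    rw [h1, Subgroup.index_top] at hK
    omega

/-- Transport of simplicity and cardinality along an isomorphism. -/
theorem isSimple_card_of_equiv {G H : Type*} [Group G] [Group H] (e : G ≃* H) {m : ℕ}
    (h : IsSimpleGroup G ∧ Nat.card G = m) : IsSimpleGroup H ∧ Nat.card H = m := by
  obtain ⟨h1, h2⟩ := h
  refine ⟨?_, ?_⟩
  · haveI := h1
    have : Nontrivial H := e.symm.toEquiv.nontrivial
    exact IsSimpleGroup.isSimpleGroup_of_surjective e.toMonoidHom e.surjective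
  · rw [← h2]
    exact (Nat.card_congr e.toEquiv).symm

/-- Transport of an index statement and of an isomorphism type along an isomorphism. -/
theorem exists_subgroup_of_equiv {G H : Type*} [Group G] [Group H] (e : G ≃* H) (N : Subgroup G) :
    ∃ M : Subgroup H, M.index = N.index ∧ Nonempty (N ≃* M) :=
  ⟨N.map e.toMonoidHom, Subgroup.index_map_equiv N e, ⟨e.subgroupMap N⟩⟩

end Cfsg.Agent.SporadicB.PermRealization
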