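import Cfsg.Agent.SporadicB.RuNets
import Cfsg.Agent.SporadicB.NetSimple
import Cfsg.Agent.SporadicB.RuRows
import Cfsg.Agent.SporadicB.RuPlanes
set_option linter.all false

/-! Refinement: neighbour counts and separation. -/

set_option autoImplicit false
set_option maxRecDepth 100000

namespace Cfsg.Agent.SporadicB.RuCheckP

open Cfsg.Agent.SporadicB Cfsg.Agent.SporadicB.PermNet Cfsg.Agent.SporadicB.NetGroup
  Cfsg.Agent.SporadicB.GraphRefine Cfsg.Agent.SporadicB.RuNets Cfsg.Agent.SporadicB.NetSimple

open Cfsg.Agent.SporadicB.RuPlanes

theorem perf : perfect RuRows.tree 12 = true := by decide +kernel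

theorem row0 : eqb (get RuRows.tree 12 0) r0 = true := by decide +kernel

theorem row1 : eqb (get RuRows.tree 12 1756) r1 = true := by decide +kernel

theorem row2 : eqb (get RuRows.tree 12 1) r2 = true := by decide +kernel

theorem row3 : eqb (get RuRows.tree 12 1757) r3 = true := by decide +kernel

theorem c1_eq : eqb (Nat.land r0 r1) c1 = true := by decide +kernel

theorem c2_eq : eqb (Nat.land c1 r2) c2 = true := by decide +kernel

theorem c3_eq : eqb (Nat.land c2 r3) c3 = true := by decide +kernel

theorem p1_eq : listBeq (sumT RuRows.tree 12 c1) p1 = true := by decide +kernel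

theorem p2_eq : listBeq (sumT RuRows.tree 12 c2) p2 = true := by decide +kernel

theorem p3_eq : listBeq (sumT RuRows.tree 12 c3) p3 = true := by decide +kernel

theorem c1_lt : ltPow 12 c1 = true := by decide +kernel

theorem c2_lt : ltPow 12 c2 = true := by decide +kernel

theorem c3_lt : ltPow 12 c3 = true := by decide +kernel

/-- The pool of first level invariant sets. -/
noncomputable def pool : List Nat := [r0, r1, r2, r3] ++ p1 ++ p2 ++ p3

theorem c4_eq : eqb (xorSel pool m4) c4 = true := by decide +kernel

theorem c4_lt : ltPow 12 c4 = true := by decide +kernel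

theorem p4_eq : listBeq (sumT RuRows.tree 12 c4) p4 = true := by decide +kernel

theorem c5_eq : eqb (xorSel pool m5) c5 = true := by decide +kernel

theorem c5_lt : ltPow 12 c5 = true := by decide +kernel

theorem p5_eq : listBeq (sumT RuRows.tree 12 c5) p5 = true := by decide +kernel

theorem c6_eq : eqb (xorSel pool m6) c6 = true := by decide +kernel

theorem c6_lt : ltPow 12 c6 = true := by decide +kernel

theorem p6_eq : listBeq (sumT RuRows.tree 12 c6) p6 = true := by decide +kernel

/-- The separating list of sets. -/
noncomputable def sepList : List Nat := [r0, r1, r2, r3] ++ p1 ++ p2 ++ p3 ++ p4 ++ p5 ++ p6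

/-- The sets invariant under the stabiliser of three base points. -/
noncomputable def list3 : List Nat := [r0, r1, r2] ++ p1 ++ p2

theorem sorted1 : sortedK sepList (full 4060) ord 0 0 = true := by decide +kernel

theorem sorted2 : sortedK yrows (full 4060) ord2 0 0 = true := by decide +kernel

theorem cell16 : eqb (selK list3 s16 (full 4060)) (mask 16 1757) = true := by decide +kernel

theorem cell975 : eqb (Nat.xor r0 (Nat.land r0 r1)) (mask 975 1) = true := by decide +kernel

theorem cellD2 : eqb (Nat.xor (full 4060) (Nat.lor (mask 1755 1) 1)) (mask 2304 1756) = true := by decide +kernel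

theorem cellD1 : eqb r0 (mask 1755 1) = true := by decide +kernel

/-- Kernel check that the listed rows are the rows of the listed points, all in the first suborbit. -/
noncomputable def rowsOf (L : List Nat) : List Nat → Bool :=
  @List.rec Nat (fun _ => List Nat → Bool) (fun rs => @List.rec Nat (fun _ => Bool) true (fun _ _ _ => false) rs)
    (fun y _ ih rs => @List.rec Nat (fun _ => Bool) false
      (fun r rs' _ => and (and (Nat.beq (get RuRows.tree 12 y) r) (and (Nat.ble 1 y) (Nat.ble y 1755)))
        (ih rs')) rs) L

theorem yrows_ok : rowsOf ys yrows = true := by decide +kernel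

end Cfsg.Agent.SporadicB.RuCheckP
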