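import Cfsg.Agent.SporadicB.RuNets
import Cfsg.Agent.SporadicB.NetSimple
set_option linter.all false

/-! Orbits and orders of words. -/

set_option autoImplicit false
set_option maxRecDepth 100000

namespace Cfsg.Agent.SporadicB.RuCheckW

open Cfsg.Agent.SporadicB Cfsg.Agent.SporadicB.PermNet Cfsg.Agent.SporadicB.NetGroup
  Cfsg.Agent.SporadicB.GraphRefine Cfsg.Agent.SporadicB.RuNets Cfsg.Agent.SporadicB.NetSimple

theorem ok_u1 : okNet (2 ^ 12) u1 = true := by decide +kernel

theorem fix_u1 : fixHi 12 4060 u1 12 = true := by decide +kernel

theorem ok_u2 : okNet (2 ^ 12) u2 = true := by decide +kernel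

theorem fix_u2 : fixHi 12 4060 u2 12 = true := by decide +kernel

theorem ok_v1 : okNet (2 ^ 12) v1 = true := by decide +kernel

theorem fix_v1 : fixHi 12 4060 v1 12 = true := by decide +kernel

theorem ok_v2 : okNet (2 ^ 12) v2 = true := by decide +kernel

theorem fix_v2 : fixHi 12 4060 v2 12 = true := by decide +kernel

theorem ok_x1 : okNet (2 ^ 12) x1 = true := by decide +kernel

theorem fix_x1 : fixHi 12 4060 x1 12 = true := by decide +kernel

theorem ok_x2 : okNet (2 ^ 12) x2 = true := by decide +kernel

theorem fix_x2 : fixHi 12 4060 x2 12 = true := by decide +kernel

theorem ok_k0 : okNet (2 ^ 12) k0 = true := by decide +kernel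

theorem fix_k0 : fixHi 12 4060 k0 12 = true := by decide +kernel

theorem ok_g0 : okNet (2 ^ 12) g0 = true := by decide +kernel

theorem fix_g0 : fixHi 12 4060 g0 12 = true := by decide +kernel

theorem z_u1 : ptTest u1 0 0 = true := by decide +kernel

theorem z_u2 : ptTest u2 0 0 = true := by decide +kernel

theorem z_v1 : ptTest v1 0 0 = true := by decide +kernel

theorem z_v2 : ptTest v2 0 0 = true := by decide +kernel

theorem z_x1 : ptTest x1 0 0 = true := by decide +kernel

theorem z_x2 : ptTest x2 0 0 = true := by decide +kernel

theorem z_k0 : ptTest k0 0 0 = true := by decide +kernel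

theorem b2_u1 : ptTest u1 1756 1756 = true := by decide +kernel

theorem b2_u2 : ptTest u2 1756 1756 = true := by decide +kernel

theorem b2_v1 : ptTest v1 1756 1756 = true := by decide +kernel

theorem b2_v2 : ptTest v2 1756 1756 = true := by decide +kernel

theorem b2_k0 : ptTest k0 1756 1756 = true := by decide +kernel

theorem b3_v1 : ptTest v1 1 1 = true := by decide +kernel

theorem b3_v2 : ptTest v2 1 1 = true := by decide +kernel

theorem b3_k0 : ptTest k0 1 1 = true := by decide +kernel

theorem b3_x1 : ptTest x1 1 1 = true := by decide +kernel

theorem b3_x2 : ptTest x2 1 1 = true := by decide +kernel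

theorem orb0 : reach [g0, u1, u2, x1] 5 0 (mask 4060 0) = true := by decide +kernel

theorem orb1 : reach [u1, u2, x1, x2] 5 1756 (mask 2304 1756) = true := by decide +kernel

theorem orbD1 : reach [u1, x2] 10 1 (mask 1755 1) = true := by decide +kernel

theorem orb2 : reach [u1, u2] 9 1 (mask 975 1) = true := by decide +kernel

theorem orb3 : reach [v1, v2, k0] 2 1757 (mask 16 1757) = true := by decide +kernel

theorem orb3T : reach [v1, v2] 2 1757 (mask 8 1757) = true := by decide +kernel

noncomputable def s10 : Nat := (nat_lit 0x3c00000000000000000000000000000000000000000000000000000000000000000000000000000000000000000000000000000000000000000000000000000000000000000000000000000000000000000000000000000000000000000000000003c00000000000000000000000008000000000000000000000000000000000000000000000000000000000000000000000004000000000000000000000000000000000000000000000000000000000000000000000000000000000000000000000000000000000000000000000000000000000000000000000000)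

theorem sorb10 : reach [x1, x2] 3 578 s10 = true := by decide +kernel

theorem slt10 : ltPow 12 s10 = true := by decide +kernel

theorem spop10 : eqb (pop 12 s10) 10 = true := by decide +kernel

noncomputable def s80 : Nat := (nat_lit 0xc3c000000030000ffffffff0000000000000000000000000000000000000000000000000000000000000000000000000000000000000000000000000000000000000000000000000000000000000000000000000000000000000000000000000000c38000000060001fffffffe00010000000000000000000000000000000000000000000000000000000000000000000000000000000000000000000000000000000000000000000000000000000000000000000000000000000000000000000000000000000000000000000000000000000000000000000000000)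

theorem sorb80 : reach [x1, x2] 6 868 s80 = true := by decide +kernel

theorem slt80 : ltPow 12 s80 = true := by decide +kernel

theorem spop80 : eqb (pop 12 s80) 80 = true := by decide +kernel

noncomputable def s640 : Nat := (nat_lit 0x3fffffffcffff00000000ffffffffffffffffffffffffffffffffffffffffffffffffffffffffffff0000000000000000000000000000000000000000000000000000000000000000000000000000000000000000000000000000000000000000007fffffff9fffe00000001fffe7fffffffffffffffffffffffffffffffffffffffffffffffffffffffffffffffffffffff8000000000000000000000000000000000000000000000000000000000000000000000000000000000000000000000000000000000000000000000000000000000000000000000000)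

theorem sorb640 : reach [x1, x2] 9 579 s640 = true := by decide +kernel

theorem slt640 : ltPow 12 s640 = true := by decide +kernel

theorem spop640 : eqb (pop 12 s640) 640 = true := by decide +kernel

noncomputable def s1024 : Nat := (nat_lit 0xffffffffffffffffffffffffffffffffffffffffffffffffffffffffffffffffffffffffffffffffffffffffffffffffffffffffffffffff0000000000000000000000000000000000000000000000000000000000000000000000000000000000000000000000000003fffffffffffffffffffffffffffffffffffffffffffffffffffffffffffffffffffffffffffffffffffffffffffffffffffffffffffffffffffffffffffffffffffffffffffffffc)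

theorem sorb1024 : reach [x1, x2] 9 2 s1024 = true := by decide +kernel

theorem slt1024 : ltPow 12 s1024 = true := by decide +kernel

theorem spop1024 : eqb (pop 12 s1024) 1024 = true := by decide +kernel

theorem sunion : eqb (Nat.lor (Nat.lor (Nat.lor (Nat.lor 2 s10) s80) s640) s1024) (mask 1755 1) = true := by decide +kernel

theorem pu1 : powTest 12 [u1] 13 = true := by decide +kernel

theorem pu2 : powTest 12 [u2] 13 = true := by decide +kernel

theorem pv1 : powTest 12 [v1, u1] 13 = true := by decide +kernel

theorem pv2 : powTest 12 [v2, u1, u1] 13 = true := by decide +kernel

theorem px1 : powTest 12 [x1, u2] 13 = true := by decide +kernel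

theorem px2 : powTest 12 [x2, u2] 13 = true := by decide +kernel

theorem qg0 : powTest 12 [g0] 29 = true := by decide +kernel

theorem qu1 : powTest 12 (u1 :: List.replicate 26 g0) 7 = true := by decide +kernel

theorem qu2 : powTest 12 (u2 :: List.replicate 12 g0) 7 = true := by decide +kernel

theorem qv1 : powTest 12 (v1 :: List.replicate 2 g0) 29 = true := by decide +kernel

theorem qv2 : powTest 12 (v2 :: List.replicate 4 g0) 29 = true := by decide +kernel

theorem qx1 : powTest 12 (x1 :: List.replicate 6 g0) 7 = true := by decide +kernel

theorem qx2 : powTest 12 (x2 :: List.replicate 7 g0) 29 = true := by decide +kernel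

theorem qk0 : powTest 12 (k0 :: List.replicate 6 g0) 7 = true := by decide +kernel

end Cfsg.Agent.SporadicB.RuCheckW
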